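/-
Orders of the maximal subgroups of the Suzuki groups (namespace `Cfsg.Agent.MaxOrders`).

* `exists_coatom_pow` : a Sylow subgroup lies in a maximal subgroup
* `card_dvd_of` : the order of a group is determined by the orders of its maximal subgroups
* `exists_prim` : a prime `ℓ` of `q² + 1` dividing no order of a smaller Suzuki group
* `coatom_borel` : a maximal subgroup of order `q² (q - 1)`
* `not_both` : no proper subgroup has order divisible by `8 ℓ`
-/
import Cfsg.Agent.EqLemmas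
import Cfsg.Agent.Lib.GraphCIT.SzFacts
import Cfsg.Agent.Lib.Suzuki.SubgroupClass
import Cfsg.Agent.Lib.Suzuki.Simple

set_option autoImplicit false
set_option linter.unusedSectionVars false
set_option linter.style.haveILetI false

namespace Cfsg.Agent.MaxOrders

open Cfsg Cfsg.Agent.GraphCIT

theorem exists_coatom_pow {G : Type*} [Group G] [Finite G] {p r : ℕ} (hp : p.Prime) (hr : r.Prime) (hrp : r ≠ p)
    (hrd : r ∣ Nat.card G) {k : ℕ} (hk : p ^ k ∣ Nat.card G) :
    ∃ M : Subgroup G, IsCoatom M ∧ p ^ k ∣ Nat.card M := by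
  haveI := Fact.mk hp
  obtain ⟨P⟩ : Nonempty (Sylow p G) := inferInstance
  have hne : (P : Subgroup G) ≠ ⊤ := by
    intro h
    have h1 : r ∣ Nat.card (P : Subgroup G) := by rw [h, Subgroup.card_top]; exact hrd
    rw [P.card_eq_multiplicity] at h1
    exact hrp ((Nat.prime_dvd_prime_iff_eq hr hp).1 (hr.dvd_of_dvd_pow h1))
  obtain ⟨M, hM, hle⟩ := (eq_top_or_exists_le_coatom (P : Subgroup G)).resolve_left hne
  exact ⟨M, hM, (P.pow_dvd_card_of_pow_dvd_card hk).trans (Subgroup.card_dvd_of_le hle)⟩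

theorem card_dvd_of {G : Type*} [Group G] [Finite G] {r s N : ℕ} (hr : r.Prime) (hs : s.Prime) (hrs : r ≠ s)
    (hrd : r ∣ Nat.card G) (hsd : s ∣ Nat.card G) (h : ∀ M : Subgroup G, IsCoatom M → Nat.card M ∣ N) :
    Nat.card G ∣ N := by
  refine (Nat.dvd_iff_prime_pow_dvd_dvd _ _).2 fun p k hp hk => ?_
  by_cases hpr : r = p
  · obtain ⟨M, hM, hd⟩ := exists_coatom_pow hp hs (fun e => hrs (hpr.trans e.symm)) hsd hk
    exact hd.trans (h M hM)
  · obtain ⟨M, hM, hd⟩ := exists_coatom_pow hp hr hpr hrd hk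
    exact hd.trans (h M hM)

theorem exists_prim {m : ℕ} (hm : 1 ≤ m) : ∃ l : ℕ, l.Prime ∧ l ≠ 2 ∧ ordTwo l = 4 * (2 * m + 1) ∧
    l ∣ (2 ^ (2 * m + 1)) ^ 2 + 1 := by
  obtain ⟨l, hl, hl2, hd, ho⟩ := exists_prime_ordTwo (n := 4 * (2 * m + 1)) (by omega) (by omega)
  refine ⟨l, hl, hl2, ho, ?_⟩
  rw [show 4 * (2 * m + 1) = 2 * ((2 * m + 1) * 2) by ring, two_pow_two_mul_sub_one] at hd
  rw [← pow_mul]
  refine (hl.dvd_mul.1 hd).resolve_right fun h => ?_
  have := Nat.le_of_dvd (by omega) (ordTwo_dvd_iff.2 h)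
  omega

theorem prim_not_dvd_pred {m l : ℕ} (ho : ordTwo l = 4 * (2 * m + 1)) :
    ¬ l ∣ 2 ^ (2 * m + 1) - 1 := fun h => by
  have := Nat.le_of_dvd (by omega) (ordTwo_dvd_iff.2 h)
  omega

variable {F : Type*} [Field F] [Fintype F] {m : ℕ} (hm : 1 ≤ m) (hF : Fintype.card F = 2 ^ (2 * m + 1))
include hm hF

theorem prim_dvd_sz {k l : ℕ} (hl : l.Prime) (hl2 : l ≠ 2) (ho : ordTwo l = 4 * (2 * k + 1))
    (hd : l ∣ Nat.card (Sz F m)) : k ≤ m := by
  have h4 : l ∣ 2 ^ (4 * (2 * m + 1)) - 1 := by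
    rw [show 4 * (2 * m + 1) = 2 * ((2 * m + 1) * 2) by ring, two_pow_two_mul_sub_one]
    rcases (card_sz_dvd_iff hm hF hl hl2).1 hd with h | h
    · exact (h.trans (Nat.pow_sub_one_dvd_pow_sub_one 2 (dvd_mul_right _ _))).mul_left _
    · rw [← pow_mul] at h
      exact h.mul_right _
  have h := Nat.le_of_dvd (by omega) (ordTwo_dvd_iff.2 h4)
  omega

theorem card_normalizer_sylow (P : Sylow 2 (Sz F m)) :
    Nat.card (Subgroup.normalizer ((P : Subgroup (Sz F m)) : Set (Sz F m))) =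
      (2 ^ (2 * m + 1)) ^ 2 * (2 ^ (2 * m + 1) - 1) := by
  haveI : Fact (Nat.Prime 2) := ⟨Nat.prime_two⟩
  haveI := finite_sz hm hF
  obtain ⟨s, hs⟩ := MulAction.exists_smul_eq (Sz F m) (Suzuki.uSylow hm hF) P
  have hP : (P : Subgroup (Sz F m)) = (Suzuki.uSub hF).map (MulAut.conj s).toMonoidHom := by
    rw [← hs, Sylow.coe_subgroup_smul]; rfl
  rw [hP, ← Subgroup.map_equiv_normalizer_eq (Suzuki.uSub hF) (MulAut.conj s),
    Suzuki.normalizer_uSub hm hF, Suzuki.card_map_conj]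
  exact Suzuki.card_stabilizer hm hF

theorem coatom_borel :
    ∃ M : Subgroup (Sz F m), IsCoatom M ∧ Nat.card M = (2 ^ (2 * m + 1)) ^ 2 * (2 ^ (2 * m + 1) - 1) := by
  haveI : Fact (Nat.Prime 2) := ⟨Nat.prime_two⟩
  haveI := finite_sz hm hF
  obtain ⟨P⟩ : Nonempty (Sylow 2 (Sz F m)) := inferInstance
  exact ⟨_, (Suzuki.borel_maximal hm hF P).1, card_normalizer_sylow hm hF P⟩

theorem three_not_dvd : ¬ 3 ∣ Nat.card (Sz F m) := by
  intro h
  rcases (card_sz_dvd_iff hm hF Nat.prime_three (by norm_num)).1 h with h | h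
  · have := ordTwo_dvd_iff.2 h
    rw [ordTwo_three] at this
    omega
  · have h2 : (2 : ℕ) ^ ((2 * m + 1) * 2) % 3 = 1 := by
      rw [mul_comm, pow_mul, Nat.pow_mod]
      norm_num
    rw [← pow_mul] at h
    omega

theorem not_eight_dvd_normalizer {U : Subgroup (Sz F m)} (hU : IsCyclic U) (hodd : Odd (Nat.card U))
    (h1 : 1 < Nat.card U) : ¬ 8 ∣ Nat.card (Subgroup.normalizer (U : Set (Sz F m))) := by
  haveI : Fact (Nat.Prime 2) := ⟨Nat.prime_two⟩
  haveI := finite_sz hm hF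
  intro h8
  have hno : ∀ z w : Sz F m, orderOf z = 2 → w ∈ U → z * w = w * z → w = 1 := by
    intro z w hz hw hc
    by_contra hw1
    obtain ⟨r, hr, hrd⟩ := Nat.exists_prime_and_dvd (n := orderOf w) (mt orderOf_eq_one_iff.1 hw1)
    have hr2 : r ≠ 2 := fun e =>
      hodd.not_two_dvd_nat (e ▸ hrd.trans (Subgroup.orderOf_dvd_natCard _ hw))
    have hco : (orderOf z).Coprime (orderOf (w ^ (orderOf w / r))) := by
      rw [hz, orderOf_pow_orderOf_div (orderOf_pos w).ne' hrd]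
      exact (Nat.coprime_primes Nat.prime_two hr).2 hr2.symm
    have := Commute.orderOf_mul_eq_mul_orderOf_of_coprime (Commute.pow_right hc (orderOf w / r)) hco
    rw [hz, orderOf_pow_orderOf_div (orderOf_pos w).ne' hrd] at this
    exact no_two_mul_sz hm hF hr hr2 _ this
  obtain ⟨Q₀, hQ₀⟩ := Sylow.exists_subgroup_card_pow_prime 2 (n := 3) h8
  set Q := Q₀.map (Subgroup.normalizer (U : Set (Sz F m))).subtype with hQdef
  have hQc : Nat.card Q = 8 := by
    rw [hQdef, Subgroup.card_map_of_injective (Subgroup.subtype_injective _), hQ₀]; norm_num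
  have hQn : ∀ y ∈ Q, ∀ u ∈ U, y * u * y⁻¹ ∈ U := by
    rintro _ ⟨y, -, rfl⟩ u hu
    exact (Subgroup.mem_normalizer_iff.1 y.2 u).1 hu
  obtain ⟨⟨u, hu⟩, hgen⟩ := hU.exists_generator
  have hu1 : u ≠ 1 := fun e => by
    have : Subsingleton U := ⟨fun a b => by
      obtain ⟨i, rfl⟩ := hgen a
      obtain ⟨j, rfl⟩ := hgen b
      exact Subtype.ext (by simp [e])⟩
    rw [Nat.card_of_subsingleton (⟨u, hu⟩ : U)] at h1
    omega
  have hkey : ∀ y ∈ Q, y * u = u * y → y = 1 := by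
    intro y hy hc
    by_contra hy1
    have hpg : IsPGroup 2 Q := IsPGroup.of_card (n := 3) (by rw [hQc]; norm_num)
    obtain ⟨k, hk⟩ := IsPGroup.iff_orderOf.1 hpg ⟨y, hy⟩
    rw [Subgroup.orderOf_mk] at hk
    have hd : 2 ∣ orderOf y := by
      rcases Nat.eq_zero_or_pos k with rfl | hk0
      · exact absurd (orderOf_eq_one_iff.1 (by simpa using hk)) hy1
      · rw [hk]; exact dvd_pow_self 2 hk0.ne'
    exact hu1 (hno _ u (orderOf_pow_orderOf_div (orderOf_pos y).ne' hd) hu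
      ((Commute.pow_left (show Commute y u from hc) _).eq))
  have hUc : ∀ a ∈ U, ∀ b ∈ U, a * b = b * a := by
    intro a ha b hb
    obtain ⟨i, hi⟩ := hgen ⟨a, ha⟩
    obtain ⟨j, hj⟩ := hgen ⟨b, hb⟩
    rw [show a = u ^ i from (congrArg Subtype.val hi).symm, show b = u ^ j from (congrArg Subtype.val hj).symm,
      ← zpow_add, ← zpow_add, add_comm]
  have hpowU : ∀ y ∈ Q, ∃ i : ℤ, y * u * y⁻¹ = u ^ i := fun y hy => by
    obtain ⟨i, hi⟩ := hgen ⟨_, hQn y hy u hu⟩
    exact ⟨i, (congrArg Subtype.val hi).symm⟩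
  have hcomm : ∀ a ∈ Q, ∀ b ∈ Q, a * b = b * a := by
    intro a ha b hb
    obtain ⟨i, hi⟩ := hpowU a ha
    obtain ⟨j, hj⟩ := hpowU b hb
    have e : ∀ (c : Sz F m) (k : ℤ), c * u ^ k * c⁻¹ = (c * u * c⁻¹) ^ k := fun c k => (conj_zpow).symm
    have e1 : (a * b) * u * (a * b)⁻¹ = (b * a) * u * (b * a)⁻¹ := by
      rw [show (a * b) * u * (a * b)⁻¹ = a * (b * u * b⁻¹) * a⁻¹ by group,
        show (b * a) * u * (b * a)⁻¹ = b * (a * u * a⁻¹) * b⁻¹ by group, hi, hj, e, e, hi, hj, ← zpow_mul,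
        ← zpow_mul, mul_comm]
    have h2 := hkey ((b * a)⁻¹ * (a * b)) (mul_mem (inv_mem (mul_mem hb ha)) (mul_mem ha hb)) (by
      calc (b * a)⁻¹ * (a * b) * u = (b * a)⁻¹ * ((a * b) * u * (a * b)⁻¹) * (a * b) := by group
        _ = u * ((b * a)⁻¹ * (a * b)) := by rw [e1]; group)
    exact (inv_mul_eq_one.1 h2).symm
  haveI hQcomm : IsMulCommutative Q := ⟨⟨fun a b => Subtype.ext (hcomm a a.2 b b.2)⟩⟩
  have hfour : ∀ y ∈ Q, y ^ 4 = 1 := by
    intro y hy
    obtain ⟨P, hP⟩ := (IsPGroup.of_card (p := 2) (n := 3) (G := Q) (by rw [hQc]; norm_num)).exists_le_sylow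
    have he := (Suzuki.sylow_two_structure hm hF P).2.1
    have h3 := Monoid.pow_exponent_eq_one (⟨y, hP hy⟩ : (P : Subgroup (Sz F m)))
    rw [he] at h3
    exact congrArg Subtype.val h3
  let φ : Q →* Q :=
    { toFun := fun y => y ^ 2
      map_one' := one_pow _
      map_mul' := fun a b => Commute.mul_pow (show Commute a b from Subtype.ext (hcomm a a.2 b b.2)) 2 }
  have hle : φ.range ≤ φ.ker := by
    rintro _ ⟨y, rfl⟩
    rw [MonoidHom.mem_ker]
    exact Subtype.ext (by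
      show ((y : Sz F m) ^ 2) ^ 2 = 1
      rw [← pow_mul]; exact hfour y y.2)
  have hinv : ∀ z ∈ Q, z ^ 2 = 1 → z ≠ 1 → z * u * z⁻¹ = u⁻¹ := by
    intro z hz hz2 hz1
    have ho : orderOf z = 2 := orderOf_eq_prime hz2 hz1
    have hw : u * (z * u * z⁻¹) ∈ U := mul_mem hu (hQn z hz u hu)
    refine (eq_inv_of_mul_eq_one_right (hno z _ ho hw ?_))
    have hzz : z * z = 1 := by rw [← sq, hz2]
    have hzi : z⁻¹ = z := inv_eq_of_mul_eq_one_right hzz
    have hc := hUc u hu _ (hQn z hz u hu)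
    rw [hzi] at hc ⊢
    calc z * (u * (z * u * z)) = (z * u * z) * u * z := by group
      _ = u * (z * u * z) * z := by rw [← hc]
  have hker : Nat.card φ.ker ≤ 2 := by
    by_contra hgt
    have hlt : 2 < Nat.card φ.ker := not_le.1 hgt
    obtain ⟨a, b, hab, ha, hb⟩ : ∃ a b : φ.ker, a ≠ b ∧ a ≠ 1 ∧ b ≠ 1 := by
      classical
      haveI := Fintype.ofFinite φ.ker
      rw [Nat.card_eq_fintype_card] at hlt
      obtain ⟨a, ha⟩ := Fintype.exists_ne_of_one_lt_card (by omega) (1 : φ.ker)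
      obtain ⟨b, hb1, hb2⟩ : ∃ b : φ.ker, b ≠ 1 ∧ b ≠ a := by
        by_contra hcon
        push Not at hcon
        have : (Finset.univ : Finset φ.ker) ⊆ {1, a} := fun b _ => by
          by_cases hb : b = 1
          · simp [hb]
          · simp [hcon b hb]
        have := Finset.card_le_card this
        rw [Finset.card_univ] at this
        have := this.trans Finset.card_le_two
        omega
      exact ⟨a, b, fun e => hb2 e.symm, ha, hb1⟩
    have ea := hinv ((a : Q) : Sz F m) (a : Q).2 (congrArg Subtype.val (MonoidHom.mem_ker.1 a.2))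
      (fun e => ha (Subtype.ext (Subtype.ext e)))
    have eb := hinv ((b : Q) : Sz F m) (b : Q).2 (congrArg Subtype.val (MonoidHom.mem_ker.1 b.2))
      (fun e => hb (Subtype.ext (Subtype.ext e)))
    set A := ((a : Q) : Sz F m)
    set B := ((b : Q) : Sz F m)
    have h2 := hkey (A⁻¹ * B) (mul_mem (inv_mem (a : Q).2) (b : Q).2) (by
      calc A⁻¹ * B * u = A⁻¹ * (B * u * B⁻¹) * B := by group
        _ = A⁻¹ * (A * u * A⁻¹) * B := by rw [ea, eb]
        _ = u * (A⁻¹ * B) := by group)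
    exact hab (Subtype.ext (Subtype.ext (inv_mul_eq_one.1 h2)))
  have h3 := Subgroup.card_le_of_le hle
  have h4 := Subgroup.card_mul_index φ.ker
  rw [Subgroup.index_ker, hQc] at h4
  have := Nat.mul_le_mul hker (h3.trans hker)
  omega

theorem not_both {l : ℕ} (hl : l.Prime) (hl2 : l ≠ 2) (ho : ordTwo l = 4 * (2 * m + 1))
    {M : Subgroup (Sz F m)} (hM : M ≠ ⊤) (hlM : l ∣ Nat.card M) : ¬ 8 ∣ Nat.card M := by
  haveI : Fact (Nat.Prime 2) := ⟨Nat.prime_two⟩
  haveI := finite_sz hm hF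
  intro h8
  rcases Suzuki.subgroup_cases hm hF hM with ⟨P, hle⟩ | ⟨U, hU, hc, hle⟩ | ⟨K, iK, iF, k, hk, hkm, hK, -, S, ⟨e⟩, hle⟩
  · have h := hlM.trans (Subgroup.card_dvd_of_le hle)
    rw [card_normalizer_sylow hm hF P] at h
    rcases hl.dvd_mul.1 h with h | h
    · exact hl2 ((Nat.prime_dvd_prime_iff_eq hl Nat.prime_two).1 (hl.dvd_of_dvd_pow (hl.dvd_of_dvd_pow h)))
    · exact prim_not_dvd_pred ho h
  · refine not_eight_dvd_normalizer hm hF hU ?_ ?_ (h8.trans (Subgroup.card_dvd_of_le hle))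
    all_goals
      have := Suzuki.sigma_le m
      have h2 := Suzuki.two_dvd_q (m := m)
      have h3 : 2 ∣ 2 ^ (m + 1) := dvd_pow_self 2 (by omega)
      have h4 : 8 ≤ 2 ^ (2 * m + 1) := le_trans (by norm_num) (Nat.pow_le_pow_right two_pos (show 3 ≤ 2 * m + 1 by omega))
      have h5 : 2 ^ (m + 1) < 2 ^ (2 * m + 1) := Nat.pow_lt_pow_right one_lt_two (by omega)
      simp only [Suzuki.torusA, Suzuki.torusB, Set.mem_insert_iff, Set.mem_singleton_iff] at hc
      try rw [Nat.odd_iff]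
      generalize 2 ^ (2 * m + 1) = q at *
      generalize 2 ^ (m + 1) = r at *
      omega
  · letI := iK
    letI := iF
    have h := hlM.trans (Subgroup.card_dvd_of_le hle)
    rw [Nat.card_congr e.toEquiv] at h
    have := prim_dvd_sz hk hK hl hl2 ho h
    omega

end Cfsg.Agent.MaxOrders
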