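/-
Groups with the orders of maximal subgroups of a Suzuki group (namespace `Cfsg.Agent.MaxOrders`).

* `ThreePrimeClass` : the simple groups of order prime to `3` are Suzuki groups
* `eight_dvd` : a nonsolvable group of order prime to `3` has order divisible by `8`
* `main` : a group with the maximal subgroup orders of `Sz(q)` is `Sz(q)`, given `ThreePrimeClass`
-/
import Cfsg.Agent.EqLemmas
import Cfsg.Agent.Lib.MaxOrders.Sz
import Cfsg.Agent.Lib.EPPO.Structure
import Cfsg.Agent.Lib.Solvable.Maximal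
import Cfsg.Agent.Lib.Suzuki.FieldMap

set_option autoImplicit false
set_option linter.unusedSectionVars false
set_option linter.style.haveILetI false

namespace Cfsg.Agent.MaxOrders

open Cfsg Cfsg.Agent.GraphCIT
open scoped commutatorElement

universe u v

/-- The simple groups of order prime to three are the Suzuki groups. -/
def ThreePrimeClass : Prop :=
  ∀ (G : Type u) [Group G] [Finite G] [IsSimpleGroup G],
    (∃ a b : G, a * b ≠ b * a) → ¬ 3 ∣ Nat.card G → Lie.IsoSuzuki G

theorem card_mulAut_dvd_six {P : Type*} [Group P] [Finite P] (h : Nat.card P ∣ 4) :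
    Nat.card (MulAut P) ∣ 6 := by
  classical
  let f : MulAut P →* Equiv.Perm {x : P // x ≠ 1} :=
    { toFun := fun a => a.toEquiv.subtypeEquiv fun x => by simp
      map_one' := Equiv.ext fun x => rfl
      map_mul' := fun a b => Equiv.ext fun x => rfl }
  have hf : Function.Injective f := fun a b e => MulEquiv.ext fun x => by
    by_cases hx : x = 1
    · simp [hx]
    · exact congrArg Subtype.val (Equiv.congr_fun e ⟨x, hx⟩)
  refine (Subgroup.card_dvd_of_injective f hf).trans ?_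
  rw [Nat.card_perm]
  haveI := Fintype.ofFinite P
  have hc : Nat.card {x : P // x ≠ 1} = Nat.card P - 1 := by
    simp only [Nat.card_eq_fintype_card, Fintype.card_subtype_compl, Fintype.card_subtype_eq]
  rw [hc]
  exact (Nat.factorial_dvd_factorial (Nat.sub_le_sub_right (Nat.le_of_dvd (by norm_num) h) 1)).trans
    (by norm_num)

theorem eight_dvd {G : Type*} [Group G] [Finite G] (h3 : ¬ 3 ∣ Nat.card G) (hns : ¬ Group.IsSolvable G) :
    8 ∣ Nat.card G := by
  haveI : Fact (Nat.Prime 2) := ⟨Nat.prime_two⟩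
  by_contra h8
  obtain ⟨P⟩ : Nonempty (Sylow 2 G) := inferInstance
  obtain ⟨k, hk⟩ := IsPGroup.iff_card.1 P.isPGroup'
  have hk2 : k ≤ 2 := by
    by_contra hk3
    exact h8 (((by norm_num : (8 : ℕ) = 2 ^ 3) ▸ pow_dvd_pow 2 (by omega : 3 ≤ k) : 8 ∣ 2 ^ k).trans
      (hk ▸ Subgroup.card_subgroup_dvd_card _))
  have hd4 : Nat.card (P : Subgroup G) ∣ 4 := hk ▸ (pow_dvd_pow 2 hk2)
  have hcomm : ∀ a b : (P : Subgroup G), a * b = b * a := by
    interval_cases k
    · haveI := (Nat.card_eq_one_iff_unique.1 (hk.trans (pow_zero 2))).1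
      exact fun a b => Subsingleton.elim _ _
    · haveI := isCyclic_of_prime_card (p := 2) (by simpa using hk)
      letI := IsCyclic.commGroup (α := (P : Subgroup G))
      exact mul_comm
    · exact fun a b => (IsPGroup.isMulCommutative_of_card_eq_prime_sq (p := 2) hk).is_comm.comm a b
  set N := Subgroup.normalizer ((P : Subgroup G) : Set G) with hN
  let φ : N →* MulAut (P : Subgroup G) := (P : Subgroup G).normalizerMonoidHom
  have hPker : (P : Subgroup G).subgroupOf N ≤ φ.ker := fun y hy => by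
    rw [MonoidHom.mem_ker]
    refine MulEquiv.ext fun x => Subtype.ext ?_
    show (y : G) * x * (y : G)⁻¹ = x
    have := congrArg Subtype.val (hcomm ⟨y, hy⟩ x)
    simp only [Subgroup.coe_mul] at this
    rw [this, mul_inv_cancel_right]
  have hle : N ≤ Subgroup.centralizer ((P : Subgroup G) : Set G) := by
    have h6 : Nat.card φ.range ∣ 6 := (Subgroup.card_subgroup_dvd_card _).trans (card_mulAut_dvd_six hd4)
    rw [← Subgroup.index_ker] at h6
    have hodd : ¬ 2 ∣ φ.ker.index := fun h =>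
      P.not_dvd_index (h.trans ((Subgroup.index_dvd_of_le hPker).trans
        (Subgroup.relIndex_dvd_index_of_le Subgroup.le_normalizer)))
    have h33 : ¬ 3 ∣ φ.ker.index := fun h =>
      h3 (h.trans ((Subgroup.index_dvd_card _).trans (Subgroup.card_subgroup_dvd_card N)))
    have h1 : φ.ker.index = 1 := by
      have hle6 := Nat.le_of_dvd (by norm_num) h6
      have hpos : 0 < φ.ker.index := Nat.pos_of_ne_zero Subgroup.index_ne_zero_of_finite
      rcases h6 with ⟨c, hc⟩
      interval_cases hi : φ.ker.index <;> omega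
    intro y hy
    have hmem : (⟨y, hy⟩ : N) ∈ φ.ker := (Subgroup.index_eq_one.1 h1) ▸ Subgroup.mem_top _
    refine Subgroup.mem_centralizer_iff.2 fun x hx => ?_
    have := congrArg Subtype.val (MulEquiv.congr_fun (MonoidHom.mem_ker.1 hmem) ⟨x, hx⟩)
    change y * x * y⁻¹ = x at this
    exact (mul_inv_eq_iff_eq_mul.1 this).symm
  set t := MonoidHom.transferSylow P hle
  have hodd : Odd (Nat.card t.ker) :=
    Nat.odd_iff.2 (by
      have hev : ¬ 2 ∣ Nat.card t.ker := MonoidHom.not_dvd_card_ker_transferSylow P hle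
      omega)
  haveI : Group.IsSolvable t.ker := OddOrderTheorem.solvable hodd
  letI : CommGroup (P : Subgroup G) := { (inferInstance : Group (P : Subgroup G)) with mul_comm := hcomm }
  exact hns (solvable_of_ker_le_range t.ker.subtype t (Subgroup.range_subtype t.ker).ge)

theorem main {G : Type u} [Group G] [Finite G] (h3P : ThreePrimeClass.{u}) {F : Type v} [Field F] [Fintype F]
    {m : ℕ} (hm : 1 ≤ m) (hF : Fintype.card F = 2 ^ (2 * m + 1))
    (h : {k : ℕ | ∃ M : Subgroup G, IsCoatom M ∧ k = Nat.card ↥M} =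
      {k : ℕ | ∃ M : Subgroup ↥(Cfsg.Lie.Sz F (2 ^ (m + 1))), IsCoatom M ∧ k = Nat.card ↥M}) :
    Nonempty (G ≃* ↥(Cfsg.Lie.Sz F (2 ^ (m + 1)))) := by
  haveI : Fact (Nat.Prime 2) := ⟨Nat.prime_two⟩
  set e₀ := Suzuki.lieEquiv hm hF
  haveI := finite_sz hm hF
  have hfwd : ∀ M : Subgroup G, IsCoatom M → ∃ S : Subgroup (Sz F m), IsCoatom S ∧ Nat.card S = Nat.card M := by
    intro M hM
    obtain ⟨S', hS', hc⟩ := h.subset ⟨M, hM, rfl⟩
    refine ⟨e₀.mapSubgroup.symm S', (OrderIso.isCoatom_iff _ _).2 hS', ?_⟩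
    rw [hc]
    exact Subgroup.card_map_of_injective (f := e₀.symm.toMonoidHom) e₀.symm.injective
  have hbwd : ∀ S : Subgroup (Sz F m), IsCoatom S → ∃ M : Subgroup G, IsCoatom M ∧ Nat.card M = Nat.card S := by
    intro S hS
    obtain ⟨M, hM, hc⟩ := h.symm.subset ⟨e₀.mapSubgroup S, (OrderIso.isCoatom_iff _ _).2 hS, rfl⟩
    exact ⟨M, hM, hc.symm.trans (Subgroup.card_map_of_injective (f := e₀.toMonoidHom) e₀.injective)⟩
  obtain ⟨l, hl, hl2, ho, hld⟩ := exists_prim hm
  haveI := Fact.mk hl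
  set q := 2 ^ (2 * m + 1) with hq
  have hlS : l ∣ Nat.card (Sz F m) := (card_sz_dvd_iff hm hF hl hl2).2 (Or.inr hld)
  have h2S : 2 ∣ Nat.card (Sz F m) := by
    rw [Suzuki.card_sz hm hF]
    exact (((dvd_pow_self 2 (by omega : 2 * m + 1 ≠ 0)).trans (dvd_pow_self _ two_ne_zero)).mul_right _).mul_right _
  have htr : ∀ p r : ℕ, p.Prime → r.Prime → r ≠ p → r ∣ Nat.card (Sz F m) → p ∣ Nat.card (Sz F m) →
      p ∣ Nat.card G := by
    intro p r hp hr hrp hrd hpd
    obtain ⟨S, hS, hd⟩ := exists_coatom_pow hp hr hrp hrd (k := 1) (by rwa [pow_one])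
    obtain ⟨M, hM, hc⟩ := hbwd S hS
    rw [pow_one, ← hc] at hd
    exact hd.trans (Subgroup.card_subgroup_dvd_card M)
  have hlG : l ∣ Nat.card G := htr l 2 hl Nat.prime_two hl2.symm h2S hlS
  have h2G : 2 ∣ Nat.card G := htr 2 l Nat.prime_two hl hl2 hlS h2S
  have hcard : Nat.card G = Nat.card (Sz F m) := by
    refine Nat.dvd_antisymm (card_dvd_of Nat.prime_two hl hl2.symm h2G hlG fun M hM => ?_)
      (card_dvd_of Nat.prime_two hl hl2.symm h2S hlS fun S hS => ?_)
    · obtain ⟨S, -, hc⟩ := hfwd M hM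
      exact hc ▸ Subgroup.card_subgroup_dvd_card S
    · obtain ⟨M, -, hc⟩ := hbwd S hS
      exact hc ▸ Subgroup.card_subgroup_dvd_card M
  have h3 : ¬ 3 ∣ Nat.card G := hcard ▸ three_not_dvd hm hF
  have hkill : ∀ H : Subgroup G, l ∣ Nat.card H → 8 ∣ Nat.card H → H = ⊤ := by
    intro H hH h8
    by_contra hne
    obtain ⟨M, hM, hle⟩ := (eq_top_or_exists_le_coatom H).resolve_left hne
    obtain ⟨S, hS, hc⟩ := hfwd M hM
    exact not_both hm hF hl hl2 ho hS.1 (hc ▸ hH.trans (Subgroup.card_dvd_of_le hle))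
      (hc ▸ h8.trans (Subgroup.card_dvd_of_le hle))
  -- the maximal subgroup of index `q² + 1`
  obtain ⟨S₁, hS₁, hS₁c⟩ := coatom_borel hm hF
  obtain ⟨M₁, hM₁, hM₁c⟩ := hbwd S₁ hS₁
  rw [hS₁c] at hM₁c
  have hidx : M₁.index = q ^ 2 + 1 := by
    have hmul := M₁.card_mul_index
    rw [hM₁c, hcard, Suzuki.card_sz hm hF] at hmul
    have h1 : 1 < 2 ^ (2 * m + 1) := Nat.one_lt_two_pow (by omega)
    have h0 : 0 < (2 ^ (2 * m + 1)) ^ 2 * (2 ^ (2 * m + 1) - 1) := Nat.mul_pos (by positivity) (by omega)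
    refine Nat.eq_of_mul_eq_mul_left h0 ?_
    rw [hmul]; ring
  have hnpow : ¬ IsPrimePow (q ^ 2 + 1) := by
    intro hpp
    rw [isPrimePow_nat_iff] at hpp
    obtain ⟨p, k, hp, -, hk⟩ := hpp
    rw [hq, ← Suzuki.torusA_mul_torusB] at hk
    have h5 : 2 ^ (m + 1) < 2 ^ (2 * m + 1) := Nat.pow_lt_pow_right one_lt_two (by omega)
    have hA : 1 < Suzuki.torusA m := by
      unfold Suzuki.torusA
      generalize 2 ^ (2 * m + 1) = a at h5 ⊢
      generalize 2 ^ (m + 1) = b at h5 ⊢
      omega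
    have hB : 1 < Suzuki.torusB m := by
      unfold Suzuki.torusB
      generalize 2 ^ (2 * m + 1) = a at h5 ⊢
      generalize 2 ^ (m + 1) = b at h5 ⊢
      omega
    obtain ⟨i, -, hi⟩ := (Nat.dvd_prime_pow hp).1 (hk ▸ dvd_mul_right (Suzuki.torusA m) (Suzuki.torusB m))
    obtain ⟨j, -, hj⟩ := (Nat.dvd_prime_pow hp).1 (hk ▸ dvd_mul_left (Suzuki.torusB m) (Suzuki.torusA m))
    have hi0 : i ≠ 0 := fun e => by rw [e, pow_zero] at hi; omega
    have hj0 : j ≠ 0 := fun e => by rw [e, pow_zero] at hj; omega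
    exact hp.ne_one (Nat.eq_one_of_dvd_coprimes (Suzuki.coprime_orders m).2.2 (hi ▸ dvd_pow_self p hi0)
      (hj ▸ dvd_pow_self p hj0))
  have hns : ¬ Group.IsSolvable G := fun hs => hnpow (hidx ▸ Solvable.isPrimePow_index_of_isCoatom hM₁)
  have hlM₁ : ¬ l ∣ Nat.card M₁ := by
    rw [hM₁c]
    intro hd
    rcases hl.dvd_mul.1 hd with hd | hd
    · exact hl2 ((Nat.prime_dvd_prime_iff_eq hl Nat.prime_two).1 (hl.dvd_of_dvd_pow (hl.dvd_of_dvd_pow hd)))
    · exact prim_not_dvd_pred ho hd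
  -- no normal `l`-subgroup
  have hnoL : ∀ L : Subgroup G, L.Normal → IsPGroup l L → L = ⊥ := by
    intro L hLn hLp
    by_contra hne
    obtain ⟨k, hk⟩ := IsPGroup.iff_card.1 hLp
    have hbot : L ⊓ M₁ = ⊥ := Solvable.inf_eq_bot_of_coprime (by
      rw [hk]
      exact Nat.Coprime.pow_left _ (hl.coprime_iff_not_dvd.2 hlM₁))
    have htop : L ⊔ M₁ = ⊤ := (hM₁.le_iff.1 le_sup_right).resolve_right fun e =>
      hne (le_bot_iff.1 (hbot ▸ le_inf le_rfl (le_sup_left.trans e.le)))
    have h1 := Solvable.card_sup_mul_card_inf M₁ L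
    rw [sup_comm, htop, inf_comm, hbot, Subgroup.card_top, Subgroup.card_bot, mul_one,
      ← M₁.card_mul_index, hidx] at h1
    have h2 : q ^ 2 + 1 = l ^ k := hk ▸ Nat.eq_of_mul_eq_mul_left Nat.card_pos h1
    refine hnpow (h2 ▸ hl.isPrimePow.pow ?_)
    rintro rfl
    exact hne (Subgroup.eq_bot_of_card_eq _ (by rw [hk, pow_zero]))
  obtain ⟨R, hRn, hRs, hrad⟩ := EPPO.exists_radical (G := G)
  haveI := hRn
  haveI := hRs
  set f := QuotientGroup.mk' R
  have hfs : Function.Surjective f := QuotientGroup.mk'_surjective R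
  have hnsQ : ¬ Group.IsSolvable (G ⧸ R) := fun hs => hns (solvable_of_ker_le_range R.subtype f
    (by rw [QuotientGroup.ker_mk', Subgroup.range_subtype]))
  have hcardQ : Nat.card G = Nat.card R * Nat.card (G ⧸ R) := by
    rw [← R.card_mul_index, Subgroup.index_eq_card]
  have h3Q : ¬ 3 ∣ Nat.card (G ⧸ R) := fun hd => h3 (hcardQ ▸ hd.mul_left _)
  have h8Q := eight_dvd h3Q hnsQ
  have hlR : ¬ l ∣ Nat.card R := by
    intro hd
    obtain ⟨L⟩ : Nonempty (Sylow l R) := inferInstance
    set L' := (L : Subgroup R).map R.subtype with hL'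
    have hLp : IsPGroup l L' := L.isPGroup'.map _
    have hsup : Subgroup.normalizer (L' : Set G) ⊔ R = ⊤ := Sylow.normalizer_sup_eq_top L
    have hlL : l ∣ Nat.card L' := by
      rw [hL', Subgroup.card_map_of_injective R.subtype_injective]
      exact L.dvd_card_of_dvd_card hd
    have hsurj : Function.Surjective (f.comp (Subgroup.normalizer (L' : Set G)).subtype) := by
      rw [← MonoidHom.range_eq_top, MonoidHom.range_comp, Subgroup.range_subtype]
      have := congrArg (Subgroup.map f) hsup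
      rwa [Subgroup.map_sup, QuotientGroup.map_mk'_self, sup_bot_eq,
        Subgroup.map_top_of_surjective f hfs] at this
    have htop := hkill _ (hlL.trans (Subgroup.card_dvd_of_le Subgroup.le_normalizer))
      (h8Q.trans (Subgroup.card_dvd_of_surjective _ hsurj))
    have := hnoL L' (Subgroup.normalizer_eq_top_iff.1 htop) hLp
    rw [this, Subgroup.card_bot] at hlL
    exact hl.not_dvd_one hlL
  haveI : Nontrivial (G ⧸ R) := not_subsingleton_iff_nontrivial.1 fun hs => hnsQ inferInstance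
  obtain ⟨N, hN⟩ := Set.Finite.exists_minimal (Set.toFinite {N : Subgroup (G ⧸ R) | N.Normal ∧ N ≠ ⊥})
    ⟨⊤, inferInstance, top_ne_bot⟩
  haveI hNn := hN.1.1
  have hNns : ¬ Group.IsSolvable N := fun hs => hN.1.2 (hrad N hNn hs)
  have h8N := eight_dvd (fun hd => h3Q (hd.trans (Subgroup.card_subgroup_dvd_card N))) hNns
  have hlN : l ∣ Nat.card N := by
    by_contra hlN
    obtain ⟨P⟩ : Nonempty (Sylow 2 N) := inferInstance
    set P' := (P : Subgroup N).map N.subtype with hP'
    set H := Subgroup.normalizer (P' : Set (G ⧸ R))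
    have hsup : H ⊔ N = ⊤ := Sylow.normalizer_sup_eq_top P
    have h8P : 8 ∣ Nat.card P' := by
      rw [hP', Subgroup.card_map_of_injective N.subtype_injective, show (8 : ℕ) = 2 ^ 3 by norm_num]
      exact P.pow_dvd_card_of_pow_dvd_card (by simpa using h8N)
    have hlQ : l ∣ Nat.card (G ⧸ R) := (hl.dvd_mul.1 (hcardQ ▸ hlG)).resolve_left hlR
    have hlH : l ∣ Nat.card H := by
      have h1 := Solvable.card_sup_mul_card_inf H N
      rw [hsup, Subgroup.card_top] at h1
      exact (hl.dvd_mul.1 (h1 ▸ hlQ.mul_right _)).resolve_right hlN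
    have h8H : 8 ∣ Nat.card H := h8P.trans (Subgroup.card_dvd_of_le Subgroup.le_normalizer)
    have hdvd : Nat.card H ∣ Nat.card (H.comap f) :=
      Subgroup.card_dvd_of_surjective (f.subgroupComap H) (MonoidHom.subgroupComap_surjective_of_surjective f H hfs)
    have htop := hkill _ (hlH.trans hdvd) (h8H.trans hdvd)
    have hHtop : H = ⊤ := by
      rw [← Subgroup.map_comap_eq_self_of_surjective hfs H, htop, Subgroup.map_top_of_surjective f hfs]
    haveI : Group.IsNilpotent P' := (P.isPGroup'.map N.subtype).isNilpotent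
    have hbot := hrad P' (Subgroup.normalizer_eq_top_iff.1 hHtop) inferInstance
    rw [hbot, Subgroup.card_bot] at h8P
    norm_num at h8P
  obtain ⟨x, hx⟩ := exists_prime_orderOf_dvd_card' (G := N) l hlN
  obtain ⟨K, hK⟩ := Set.Finite.exists_maximal (Set.toFinite {K : Subgroup N | K.Normal ∧ K ≠ ⊤})
    ⟨⊥, inferInstance, fun e => hN.1.2 ((Subgroup.nontrivial_iff_ne_bot _).not_left.1 fun hnt => by
      exact absurd e.symm top_ne_bot)⟩
  haveI := hK.1.1
  haveI : Nontrivial (N ⧸ K) := QuotientGroup.nontrivial_iff.2 hK.1.2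
  haveI : IsSimpleGroup (N ⧸ K) := ⟨fun X hX => by
    haveI := hX
    by_cases e : X.comap (QuotientGroup.mk' K) = ⊤
    · right
      rw [← Subgroup.map_comap_eq_self_of_surjective (QuotientGroup.mk'_surjective K) X, e,
        Subgroup.map_top_of_surjective _ (QuotientGroup.mk'_surjective K)]
    · left
      rw [← Subgroup.map_comap_eq_self_of_surjective (QuotientGroup.mk'_surjective K) X,
        ← hK.eq_of_le ⟨hX.comap _, e⟩ (QuotientGroup.le_comap_mk' K X), QuotientGroup.map_mk'_self]⟩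
  have hsmall : ∀ X : Subgroup (G ⧸ R), X.Normal → X ≤ N → ¬ N ≤ X → X = ⊥ := fun X hX hle hne =>
    by_contra fun hb => hne (hN.2 ⟨hX, hb⟩ hle)
  have hnc : ∃ a b : N ⧸ K, a * b ≠ b * a := by
    by_contra hcon
    push Not at hcon
    have hle : commutator N ≤ K := by
      rw [commutator_eq_closure, Subgroup.closure_le]
      rintro _ ⟨a, b, rfl⟩
      rw [SetLike.mem_coe, ← QuotientGroup.eq_one_iff]
      show QuotientGroup.mk' K ⁅a, b⁆ = 1
      rw [map_commutatorElement, commutatorElement_eq_one_iff_mul_comm]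
      exact hcon _ _
    have hD := hsmall ⁅N, N⁆ inferInstance (Subgroup.commutator_le_self N) fun hle' => hK.1.2 (top_le_iff.1 (by
      intro a _
      have ha := hle' a.2
      rw [← Subgroup.map_subtype_commutator] at ha
      obtain ⟨b, hb, he⟩ := ha
      exact hle (Subtype.ext he ▸ hb)))
    have : commutator N = ⊥ := by
      rw [← Subgroup.map_eq_bot_iff_of_injective _ N.subtype_injective, Subgroup.map_subtype_commutator, hD]
    haveI : Group.IsSolvable N := ⟨⟨1, by rw [derivedSeries_one]; exact this⟩⟩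
    exact hNns this
  obtain ⟨g, hg⟩ : ∃ g : G ⧸ R, g⁻¹ * x * g ∉ K.map N.subtype := by
    by_contra hcon
    push Not at hcon
    have hbot := hsmall (K.map N.subtype).normalCore inferInstance
      ((Subgroup.normalCore_le _).trans (Subgroup.map_subtype_le K)) fun hle => hK.1.2 (top_le_iff.1 (by
        intro a _
        obtain ⟨b, hb, he⟩ := Subgroup.normalCore_le _ (hle a.2)
        exact Subtype.ext he ▸ hb))
    have hmem : (x : G ⧸ R) ∈ (K.map N.subtype).normalCore := fun b => by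
      have := hcon b⁻¹
      rwa [inv_inv] at this
    rw [hbot, Subgroup.mem_bot] at hmem
    rw [← Subgroup.orderOf_coe, hmem, orderOf_one] at hx
    exact hl.ne_one hx.symm
  set y : N := ⟨g⁻¹ * x * g, by simpa using hNn.conj_mem x x.2 g⁻¹⟩ with hy
  have hyK : y ∉ K := fun hmem => hg ⟨y, hmem, rfl⟩
  have hlT : l ∣ Nat.card (N ⧸ K) := by
    have hoy : orderOf y = l := by
      rw [← Subgroup.orderOf_coe, hy]
      show orderOf (g⁻¹ * x * g) = l
      rw [show g⁻¹ * x * g = MulAut.conj g⁻¹ (x : G ⧸ R) by simp [MulAut.conj_apply], MulEquiv.orderOf_eq,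
        Subgroup.orderOf_coe, hx]
    have hd := orderOf_map_dvd (QuotientGroup.mk' K) y
    rw [hoy] at hd
    rcases (Nat.dvd_prime hl).1 hd with h1 | h1
    · exact absurd ((QuotientGroup.eq_one_iff y).1 (orderOf_eq_one_iff.1 h1)) hyK
    · exact h1 ▸ orderOf_dvd_natCard _
  have hTN : Nat.card (N ⧸ K) ∣ Nat.card N := Subgroup.card_quotient_dvd_card K
  have hTG : Nat.card (N ⧸ K) ∣ Nat.card G :=
    hcardQ ▸ (hTN.trans (Subgroup.card_subgroup_dvd_card N)).mul_left _
  obtain ⟨F', iF', fF', m', hm', hF', ⟨e⟩⟩ := h3P (N ⧸ K) hnc fun hd => h3 (hd.trans hTG)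
  letI := iF'
  letI := fF'
  haveI := finite_sz hm' hF'
  set e' := e.trans (Suzuki.lieEquiv hm' hF').symm
  have hmle : m ≤ m' := prim_dvd_sz hm' hF' hl hl2 ho (Nat.card_congr e'.toEquiv ▸ hlT)
  have hge : m' ≤ m := by
    have hd : 2 ^ (2 * (2 * m' + 1)) ∣ Nat.card (Sz F m) := by
      refine dvd_trans ?_ (hcard ▸ (Nat.card_congr e'.toEquiv ▸ hTG))
      rw [Suzuki.card_sz hm' hF', ← pow_mul, mul_comm 2 (2 * m' + 1)]
      exact (dvd_mul_right _ _).mul_right _
    rw [Suzuki.card_sz hm hF, ← pow_mul, mul_assoc] at hd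
    have hco : (2 ^ (2 * (2 * m' + 1))).Coprime ((2 ^ ((2 * m + 1) * 2) + 1) * (2 ^ (2 * m + 1) - 1)) :=
      Nat.Coprime.pow_left _ (Nat.prime_two.coprime_iff_not_dvd.2 fun hd2 => by
        rcases Nat.prime_two.dvd_mul.1 hd2 with hd2 | hd2
        · exact not_two_dvd_two_pow_add_one (by omega) hd2
        · exact not_two_dvd_two_pow_sub_one (by omega) hd2)
    have := Nat.pow_dvd_pow_iff_le_right one_lt_two |>.1 (hco.dvd_of_dvd_mul_right hd)
    omega
  obtain rfl : m' = m := le_antisymm hge hmle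
  let θ : F' ≃+* F := FiniteField.ringEquivOfCardEq (hF'.trans hF.symm)
  let ψ := Suzuki.szMap hF hm hF' θ.toRingHom (fun x => map_pow θ x _)
  have hcT : Nat.card (N ⧸ K) = Nat.card G := by
    rw [Nat.card_congr e'.toEquiv, hcard, Suzuki.card_sz hm hF', Suzuki.card_sz hm hF]
  have hψ : Function.Bijective ψ := (Nat.bijective_iff_injective_and_card ψ).2
    ⟨Suzuki.szMap_injective hF hm hF' _ _, by rw [← Nat.card_congr e'.toEquiv, hcT, hcard]⟩
  have h1 : Nat.card N = Nat.card G := Nat.dvd_antisymm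
    (hcardQ ▸ (Subgroup.card_subgroup_dvd_card N).mul_left _) (hcT ▸ hTN)
  have h2 : Nat.card (G ⧸ R) = Nat.card G := Nat.dvd_antisymm (hcardQ ▸ dvd_mul_left _ _)
    (h1 ▸ Subgroup.card_subgroup_dvd_card N)
  have hNtop : N = ⊤ := Subgroup.eq_top_of_card_eq N (h1.trans h2.symm)
  subst hNtop
  let a : G ≃* G ⧸ R := MulEquiv.ofBijective f ((Nat.bijective_iff_surjective_and_card f).2 ⟨hfs, h2.symm⟩)
  let b : (⊤ : Subgroup (G ⧸ R)) ≃* (⊤ : Subgroup (G ⧸ R)) ⧸ K := MulEquiv.ofBijective (QuotientGroup.mk' K)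
    ((Nat.bijective_iff_surjective_and_card _).2 ⟨QuotientGroup.mk'_surjective K, by rw [hcT, h1]⟩)
  exact ⟨((((a.trans Subgroup.topEquiv.symm).trans b).trans e').trans (MulEquiv.ofBijective ψ hψ)).trans e₀⟩

end Cfsg.Agent.MaxOrders
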